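import Groth.Agent.Torsor99.Basic
import Groth.Prelude.Def_ChGrp
import Groth.Prelude.Def_W4bk4git07Quot

/-!
Balanced products: descent of morphisms along the quotient map.
-/

set_option autoImplicit false
set_option linter.style.haveILetI false

noncomputable section

universe u

open CategoryTheory MonoidalCategory CartesianMonoidalCategory MonObj AlgebraicGeometry Opposite

namespace Groth.Agent.BalProd99

variable {S : Scheme.{u}}

/-- Local sections for the fppf topology give local sections for the fpqc topology. -/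
theorem locTriv_fpqc {B : Scheme.{u}} {X : Over B}
    (h : NonAbH1.IsLocallyTrivialFor Scheme.fppfPrecoverage X) :
    NonAbH1.IsLocallyTrivialFor Scheme.fpqcPrecoverage X := by
  obtain ⟨R, hR, hsec⟩ := h
  exact ⟨R, Scheme.fppfPrecoverage_le_fpqcPrecoverage _ hR, hsec⟩

variable {P Y A : Over S}

/-- A morphism constant on the pairs with the same image descends along a map with local sections. -/
theorem exists_desc (j : P ⟶ Y) (hj : NonAbH1.IsLocallyTrivialFor Scheme.fppfPrecoverage (Over.mk j.left : Over Y.left))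
    (t : P ⟶ A) (ht : ∀ (T : Over S) (x y : T ⟶ P), x ≫ j = y ≫ j → x ≫ t = y ≫ t) :
    ∃ χ : Y ⟶ A, j ≫ χ = t := by
  obtain ⟨R, hR, hsec⟩ := locTriv_fpqc hj
  choose σ hσ using hsec
  have hσ' : ∀ ⦃Y₁ : Scheme.{u}⦄ (f : Y₁ ⟶ Y.left) (hf : R f), σ f hf ≫ j.left = f := hσ
  have key : ∀ {T : Scheme.{u}} (x y : T ⟶ P.left), x ≫ j.left = y ≫ j.left → x ≫ t.left = y ≫ t.left := by
    intro T x y e
    have hy : y ≫ P.hom = x ≫ P.hom := by
      rw [← Over.w j, ← Category.assoc, ← e, Category.assoc]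
    have := ht (Over.mk (x ≫ P.hom)) (Over.homMk x rfl) (Over.homMk y hy) (Over.OverMorphism.ext e)
    exact congrArg CommaMorphism.left this
  have hsh : Presieve.IsSheafFor (yoneda.obj A.left) R :=
    (GrothendieckTopology.Subcanonical.isSheaf_of_isRepresentable (J := Scheme.fpqcTopology) (yoneda.obj A.left)).isSheafFor R
      (Precoverage.generate_mem_toGrothendieck hR)
  let fam : Presieve.FamilyOfElements (yoneda.obj A.left) R := fun S' f hf => σ f hf ≫ t.left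
  have hfam : fam.Compatible := by
    intro Y₁ Y₂ Z g₁ g₂ f₁ f₂ h₁ h₂ e
    show g₁ ≫ σ f₁ h₁ ≫ t.left = g₂ ≫ σ f₂ h₂ ≫ t.left
    rw [← Category.assoc, ← Category.assoc]
    exact key _ _ (by rw [Category.assoc, Category.assoc, hσ' f₁ h₁, hσ' f₂ h₂, e])
  let χ₀ : Y.left ⟶ A.left := hsh.amalgamate fam hfam
  have hv : ∀ ⦃Y₁ : Scheme.{u}⦄ (f : Y₁ ⟶ Y.left) (hf : R f), f ≫ χ₀ = σ f hf ≫ t.left :=
    fun Y₁ f hf => hsh.valid_glue hfam f hf
  have h₀ : j.left ≫ χ₀ = t.left := by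
    refine Torsor99.ext_of_cover hR j.left _ _ fun T S' y g f hf e => ?_
    rw [← Category.assoc, ← e, Category.assoc, hv f hf, ← Category.assoc]
    exact key _ _ (by rw [Category.assoc, hσ' f hf, e])
  refine ⟨Over.homMk χ₀ ?_, Over.OverMorphism.ext h₀⟩
  refine Torsor99.hom_cancel (X := (Over.mk j.left : Over Y.left)) (locTriv_fpqc hj) ?_
  show j.left ≫ χ₀ ≫ A.hom = j.left ≫ Y.hom
  rw [reassoc_of% h₀, Over.w, Over.w]

theorem desc_ext (j : P ⟶ Y) (hj : NonAbH1.IsLocallyTrivialFor Scheme.fppfPrecoverage (Over.mk j.left : Over Y.left))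
    {χ χ' : Y ⟶ A} (e : j ≫ χ = j ≫ χ') : χ = χ' :=
  Over.OverMorphism.ext (Torsor99.hom_cancel (X := (Over.mk j.left : Over Y.left)) (locTriv_fpqc hj)
    (congrArg CommaMorphism.left e))

/-- Two morphisms out of a product with the target of a map with local sections agree if they agree after lifting. -/
theorem ext_prod {G : Over S} (j : P ⟶ Y)
    (hj : NonAbH1.IsLocallyTrivialFor Scheme.fppfPrecoverage (Over.mk j.left : Over Y.left))
    {u v : G ⊗ Y ⟶ A} (h : ∀ (T : Over S) (g : T ⟶ G) (p : T ⟶ P), lift g (p ≫ j) ≫ u = lift g (p ≫ j) ≫ v) :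
    u = v := by
  obtain ⟨R, hR, hsec⟩ := locTriv_fpqc hj
  apply Over.OverMorphism.ext
  refine Torsor99.ext_of_cover hR (snd G Y).left u.left v.left fun T S' y g f hf e => ?_
  obtain ⟨σ, hσ⟩ := hsec f hf
  let T' : Over S := Over.mk (y ≫ (G ⊗ Y).hom)
  let y' : T' ⟶ G ⊗ Y := Over.homMk y rfl
  have hp : (g ≫ σ) ≫ j.left = y ≫ (snd G Y).left := by
    rw [← e, Category.assoc]; exact congrArg (g ≫ ·) hσ
  let p : T' ⟶ P := Over.homMk (g ≫ σ) (by
    show (g ≫ σ) ≫ P.hom = y ≫ (G ⊗ Y).hom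
    rw [← Over.w j, ← Category.assoc, hp, Category.assoc, Over.w (snd G Y)])
  have hpj : p ≫ j = y' ≫ snd G Y := Over.OverMorphism.ext hp
  have hy' : lift (y' ≫ fst G Y) (p ≫ j) = y' := by
    rw [hpj]; exact CartesianMonoidalCategory.hom_ext _ _ (by simp) (by simp)
  have := h T' (y' ≫ fst G Y) p
  rw [hy'] at this
  exact congrArg CommaMorphism.left this

variable {G H Z : Over S} [GrpObj G] [GrpObj H]

theorem lift_trivialAction_act {T : Over S} (g x : T ⟶ G) :
    lift g x ≫ (NonAbH1.trivialAction G).act = g * x := rfl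

variable {i : H ⟶ G} [IsMonHom i] {aZ : AlgGrp.Action H Z} {aY : AlgGrp.Action G Y} {j : G ⊗ Z ⟶ Y}

/-- Left translation. -/
theorem act_j (hY : ChGrp.IsBalProd Scheme.fppfPrecoverage i aZ aY j) {T : Over S} (g g' : T ⟶ G) (z : T ⟶ Z) :
    lift g (lift g' z ≫ j) ≫ aY.act = lift (g * g') z ≫ j := by
  have h := congrArg (lift g (lift g' z) ≫ ·) hY.1
  simp only [lift_whiskerLeft_assoc] at h
  rw [← h, ← Category.assoc, AlgGrp.Action.lift_prod_act, lift_trivialAction_act, AlgGrp.Action.lift_trivial_act]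

/-- The balanced relation. -/
theorem balance (hY : ChGrp.IsBalProd Scheme.fppfPrecoverage i aZ aY j) {T : Over S} (h : T ⟶ H) (g : T ⟶ G) (z : T ⟶ Z) :
    lift (g * (h ≫ i)⁻¹) (lift h z ≫ aZ.act) ≫ j = lift g z ≫ j := by
  have e := congrArg (lift h (lift g z) ≫ ·) hY.2.1.w
  simp only [← Category.assoc, lift_snd] at e
  rwa [ChGrp.lift_twist_act] at e

/-- Points with the same image differ by the twisted action. -/
theorem exists_of_eq (hY : ChGrp.IsBalProd Scheme.fppfPrecoverage i aZ aY j) {T : Over S} (x y : T ⟶ G ⊗ Z)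
    (e : x ≫ j = y ≫ j) :
    ∃ h : T ⟶ H, x ≫ fst G Z = (y ≫ fst G Z) * (h ≫ i)⁻¹ ∧ x ≫ snd G Z = lift h (y ≫ snd G Z) ≫ aZ.act := by
  let q := hY.2.1.lift x y e
  refine ⟨q ≫ fst H (G ⊗ Z), ?_⟩
  have hy : y = lift (y ≫ fst G Z) (y ≫ snd G Z) := by
    rw [← comp_lift, lift_fst_snd, Category.comp_id]
  have hq : q = lift (q ≫ fst H (G ⊗ Z)) (lift (y ≫ fst G Z) (y ≫ snd G Z)) := by
    rw [← hy, ← hY.2.1.lift_snd x y e]
    exact CartesianMonoidalCategory.hom_ext _ _ (by simp [q]) (by simp [q])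
  have hx : x = lift ((y ≫ fst G Z) * ((q ≫ fst H (G ⊗ Z)) ≫ i)⁻¹) (lift (q ≫ fst H (G ⊗ Z)) (y ≫ snd G Z) ≫ aZ.act) := by
    rw [← ChGrp.lift_twist_act, ← hq]
    exact (hY.2.1.lift_fst x y e).symm
  constructor
  · conv_lhs => rw [hx, lift_fst]
  · conv_lhs => rw [hx, lift_snd]

theorem invariant_pts {Q : Over S} {H' : Over S} [GrpObj H'] {a : AlgGrp.Action H' Z} {π : Z ⟶ Q}
    (h : GIT.IsInvariant a π) {T : Over S} (g : T ⟶ H') (z : T ⟶ Z) : (lift g z ≫ a.act) ≫ π = z ≫ π := by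
  rw [Category.assoc, h, lift_snd_assoc]

theorem catQuot_iso {P Q : Over S} (hY : ChGrp.IsBalProd Scheme.fppfPrecoverage i aZ aY j)
    {πZ : Z ⟶ P} (hP : GIT.IsCatQuot aZ πZ) {πY : Y ⟶ Q} (hQ : GIT.IsCatQuot aY πY) :
    ∃ (φ : P ⟶ Q) (χ : Q ⟶ P), φ ≫ χ = 𝟙 P ∧ χ ≫ φ = 𝟙 Q ∧
      πZ ≫ φ = lift (toUnit Z ≫ η[G]) (𝟙 Z) ≫ j ≫ πY ∧ j ≫ πY ≫ χ = snd G Z ≫ πZ := by
  have hone : (toUnit Z ≫ η[G]) = (1 : Z ⟶ G) := Hom.one_def.symm
  rw [hone]
  -- the quotient map does not depend on the first coordinate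
  have key : ∀ (T : Over S) (g : T ⟶ G) (z : T ⟶ Z), lift g z ≫ j ≫ πY = lift 1 z ≫ j ≫ πY := fun T g z => by
    have h := invariant_pts hQ.1 g (lift 1 z ≫ j)
    rw [act_j hY, _root_.mul_one] at h
    simpa [Category.assoc] using h
  -- the map out of the quotient of `Z`
  have hψ : GIT.IsInvariant aZ (lift (1 : Z ⟶ G) (𝟙 Z) ≫ j ≫ πY) := by
    unfold GIT.IsInvariant
    rw [← Category.assoc, comp_lift, MonObj.comp_one, Category.comp_id, ← Category.assoc (snd H Z), comp_lift,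
      MonObj.comp_one, Category.comp_id]
    have h := balance hY (fst H Z) (fst H Z ≫ i) (snd H Z)
    rw [mul_inv_cancel, lift_fst_snd, Category.id_comp] at h
    rw [reassoc_of% h]
    exact key _ _ _
  obtain ⟨φ, hφ, -⟩ := hP.2 Q _ hψ
  -- the map out of the balanced product
  obtain ⟨χ₀, hχ₀⟩ := exists_desc j hY.2.2 (snd G Z ≫ πZ) (fun T x y e => by
    obtain ⟨h, -, h2⟩ := exists_of_eq hY x y e
    rw [← Category.assoc, ← Category.assoc, h2]
    exact invariant_pts hP.1 h _)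
  have hinv : GIT.IsInvariant aY χ₀ := ext_prod j hY.2.2 (fun T g p => by
    have hp : p = lift (p ≫ fst G Z) (p ≫ snd G Z) := by
      rw [← comp_lift, lift_fst_snd, Category.comp_id]
    have hL : lift g (p ≫ j) ≫ aY.act = lift (g * (p ≫ fst G Z)) (p ≫ snd G Z) ≫ j := by
      rw [← act_j hY, ← hp]
    rw [← Category.assoc, hL, Category.assoc, hχ₀, lift_snd_assoc, lift_snd_assoc, Category.assoc]
    simp only [Category.assoc, hχ₀])
  obtain ⟨χ, hχ, -⟩ := hQ.2 P χ₀ hinv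
  have hjχ : j ≫ πY ≫ χ = snd G Z ≫ πZ := by rw [hχ, hχ₀]
  refine ⟨φ, χ, ?_, ?_, hφ, hjχ⟩
  · refine (hP.2 P πZ hP.1).unique ?_ (Category.comp_id _)
    rw [reassoc_of% hφ, hjχ, lift_snd_assoc, Category.id_comp]
  · refine (hQ.2 Q πY hQ.1).unique ?_ (Category.comp_id _)
    refine desc_ext j hY.2.2 ?_
    rw [reassoc_of% hjχ, hφ, ← Category.assoc, comp_lift, MonObj.comp_one, Category.comp_id]
    have h := key _ (fst G Z) (snd G Z)
    rw [lift_fst_snd, Category.id_comp] at h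
    exact h.symm

end Groth.Agent.BalProd99
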