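import Groth.Agent.BalProd99.Desc
import Groth.Agent.Sga84.TorsorDesc

/-!
Fixed points of a central element in a balanced product.
-/

set_option autoImplicit false
set_option linter.style.haveILetI false

noncomputable section

universe u

open CategoryTheory MonoidalCategory CartesianMonoidalCategory MonObj AlgebraicGeometry Opposite CategoryTheory.Limits

namespace Groth.Agent.BalProd99

variable {S : Scheme.{u}}

theorem ext_of_lifts {P Y A T : Over S} (j : P ⟶ Y)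
    (hj : NonAbH1.IsLocallyTrivialFor Scheme.fppfPrecoverage (Over.mk j.left : Over Y.left))
    (y : T ⟶ Y) (u v : T ⟶ A)
    (h : ∀ (T' : Over S) (f : T' ⟶ T) (p : T' ⟶ P), p ≫ j = f ≫ y → f ≫ u = f ≫ v) : u = v := by
  obtain ⟨R, hR, hsec⟩ := locTriv_fpqc hj
  apply Over.OverMorphism.ext
  refine Torsor99.ext_of_cover hR y.left u.left v.left fun T₀ S' f g φ hφ e => ?_
  obtain ⟨σ, hσ⟩ := hsec φ hφ
  let T' : Over S := Over.mk (f ≫ T.hom)
  let f' : T' ⟶ T := Over.homMk f rfl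
  have hp : (g ≫ σ) ≫ j.left = f ≫ y.left := by
    rw [← e, Category.assoc]; exact congrArg (g ≫ ·) hσ
  let p : T' ⟶ P := Over.homMk (g ≫ σ) (by
    show (g ≫ σ) ≫ P.hom = f ≫ T.hom
    rw [← Over.w j, ← Category.assoc, hp, Category.assoc, Over.w])
  exact congrArg CommaMorphism.left (h T' f' p (Over.OverMorphism.ext hp))

theorem factors_of_local_lifts {Y' Y T : Over S} (m : Y' ⟶ Y) [Mono m] (y : T ⟶ Y) {P : Over S} (j : P ⟶ Y)
    (hj : NonAbH1.IsLocallyTrivialFor Scheme.fppfPrecoverage (Over.mk j.left : Over Y.left))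
    (h : ∀ (T' : Over S) (f : T' ⟶ T) (p : T' ⟶ P), p ≫ j = f ≫ y → ∃ z : T' ⟶ Y', z ≫ m = f ≫ y) :
    ∃ z : T ⟶ Y', z ≫ m = y := by
  obtain ⟨R, hR, hsec⟩ := locTriv_fpqc hj
  have lifts : ∀ ⦃T₀ : Scheme.{u}⦄ (f : T₀ ⟶ T.left), ((Sieve.generate R).pullback y.left).arrows f →
      ∃ z : Over.mk (f ≫ T.hom) ⟶ Y', z ≫ m = (Over.homMk f rfl : Over.mk (f ≫ T.hom) ⟶ T) ≫ y := by
    intro T₀ f hf
    obtain ⟨S', g, φ, hφ, e⟩ := hf
    obtain ⟨σ, hσ⟩ := hsec φ hφ
    have hp : (g ≫ σ) ≫ j.left = f ≫ y.left := by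
      rw [← e, Category.assoc]; exact congrArg (g ≫ ·) hσ
    let p : Over.mk (f ≫ T.hom) ⟶ P := Over.homMk (g ≫ σ) (by
      show (g ≫ σ) ≫ P.hom = f ≫ T.hom
      rw [← Over.w j, ← Category.assoc, hp, Category.assoc, Over.w])
    exact h _ _ p (Over.OverMorphism.ext hp)
  choose z hz using lifts
  have hzl : ∀ {T₀ : Scheme.{u}} (f : T₀ ⟶ T.left) hf, (z f hf).left ≫ m.left = f ≫ y.left := fun f hf =>
    congrArg CommaMorphism.left (hz f hf)
  have hsh := Torsor99.isSheafFor_comap hR y.left Y'.left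
  let fam : Presieve.FamilyOfElements (yoneda.obj Y'.left) ((Sieve.generate R).pullback y.left).arrows :=
    fun T₀ f hf => (z f hf).left
  have hfam : fam.Compatible := by
    intro Y₁ Y₂ W g₁ g₂ f₁ f₂ h₁ h₂ e
    show g₁ ≫ (z f₁ h₁).left = g₂ ≫ (z f₂ h₂).left
    let u₁ : Over.mk (g₁ ≫ f₁ ≫ T.hom) ⟶ Y' :=
      (Over.homMk g₁ rfl : Over.mk (g₁ ≫ f₁ ≫ T.hom) ⟶ Over.mk (f₁ ≫ T.hom)) ≫ z f₁ h₁
    let u₂ : Over.mk (g₁ ≫ f₁ ≫ T.hom) ⟶ Y' :=
      (Over.homMk g₂ (by
        show g₂ ≫ f₂ ≫ T.hom = g₁ ≫ f₁ ≫ T.hom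
        rw [← Category.assoc, ← e, Category.assoc]) : Over.mk (g₁ ≫ f₁ ≫ T.hom) ⟶ Over.mk (f₂ ≫ T.hom)) ≫ z f₂ h₂
    have : u₁ = u₂ := by
      rw [← cancel_mono m]
      apply Over.OverMorphism.ext
      simp only [u₁, u₂, Over.comp_left, Over.homMk_left, Category.assoc, hzl]
      exact (reassoc_of% e) y.left
    exact congrArg CommaMorphism.left this
  let g₀ : T.left ⟶ Y'.left := hsh.amalgamate fam hfam
  have h₀ : g₀ ≫ m.left = y.left := Torsor99.ext_of_cover hR y.left _ _ fun T₀ S' f g φ hφ e => by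
    have hf : ((Sieve.generate R).pullback y.left).arrows f := ⟨S', g, φ, hφ, e⟩
    rw [← Category.assoc, show f ≫ g₀ = (z f hf).left from hsh.valid_glue hfam f hf, hzl]
  exact ⟨Over.homMk g₀ (by rw [← Over.w m, ← Category.assoc, h₀, Over.w y]), Over.OverMorphism.ext h₀⟩

theorem isClosedImmersion_of_pullback {Y' Y P P' : Over S} {m : Y' ⟶ Y} {j : P ⟶ Y} {j' : P' ⟶ Y'} {c : P' ⟶ P}
    (hsq : IsPullback j'.left c.left m.left j.left) [IsClosedImmersion c.left]
    (hj : NonAbH1.IsLocallyTrivialFor Scheme.fppfPrecoverage (Over.mk j.left : Over Y.left)) :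
    IsClosedImmersion m.left := by
  haveI := Unr55.isClosedImmersion.{u}
  rw [IsZariskiLocalAtTarget.iff_of_openCover (P := @IsClosedImmersion) Y.left.affineCover]
  intro i
  obtain ⟨W, -, w, hw, s, hs⟩ := Sga84.exists_affine_section (locTriv_fpqc hj)
    (U := (Y.left.affineCover.f i).opensRange) (isAffineOpen_opensRange _)
  let e := (Y.left.affineCover.f i).isoOpensRange
  have hw' : Unr55.fpqc (w ≫ e.inv) := (Unr55.fpqc.cancel_right_of_respectsIso w e.inv).mpr hw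
  refine MorphismProperty.of_pullback_fst_of_descendsAlong (P := @IsClosedImmersion) (Q := Unr55.fpqc.{u}) hw' ?_
  rw [← pullbackSymmetry_hom_comp_snd, MorphismProperty.cancel_left_of_respectsIso @IsClosedImmersion]
  change IsClosedImmersion (pullback.snd (pullback.snd m.left (Y.left.affineCover.f i)) (w ≫ e.inv))
  rw [← MorphismProperty.cancel_left_of_respectsIso @IsClosedImmersion
      (pullbackLeftPullbackSndIso m.left (Y.left.affineCover.f i) (w ≫ e.inv)).inv,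
    pullbackLeftPullbackSndIso_inv_snd_snd]
  have hf : (w ≫ e.inv) ≫ Y.left.affineCover.f i = s ≫ j.left := by
    refine Eq.trans ?_ hs.symm
    simp [e]
  have h2 : IsPullback (pullback.snd c.left s) (pullback.fst c.left s ≫ j'.left) (s ≫ j.left) m.left :=
    ((IsPullback.of_hasPullback c.left s).flip.paste_vert hsq.flip.flip.flip).flip.flip
  have h3 : IsPullback (pullback.fst c.left s ≫ j'.left) (pullback.snd c.left s) m.left ((w ≫ e.inv) ≫ Y.left.affineCover.f i) := by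
    rw [hf]; exact h2.flip
  exact (MorphismProperty.cancel_left_of_respectsIso @IsClosedImmersion h3.isoPullback.hom _).mp
    (by rw [h3.isoPullback_hom_snd]; exact MorphismProperty.pullback_snd _ _ ‹IsClosedImmersion c.left›)

variable {Q G X Xh Y Y' : Over S} [GrpObj Q] [GrpObj G]

theorem balProd_fixedPts
    (i : G ⟶ Q) [IsMonHom i] [Mono i]
    (h : 𝟙_ (Over S) ⟶ G)
    (hcent : ∀ (T : Over S) (q : T ⟶ Q), q * (toUnit T ≫ h ≫ i) = (toUnit T ≫ h ≫ i) * q)
    (a : AlgGrp.Action G X)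
    (incl : Xh ⟶ X) [Mono incl]
    (hXh : ∀ (T : Over S) (x : T ⟶ X), (∃ y : T ⟶ Xh, y ≫ incl = x) ↔ lift (toUnit T ≫ h) x ≫ a.act = x)
    (aXh : AlgGrp.Action G Xh) (hincl : AlgGrp.Action.IsEquivariant aXh a incl)
    (aY : AlgGrp.Action Q Y) (j : Q ⊗ X ⟶ Y) (hY : ChGrp.IsBalProd Scheme.fppfPrecoverage i a aY j)
    (aY' : AlgGrp.Action Q Y') (j' : Q ⊗ Xh ⟶ Y') (hY' : ChGrp.IsBalProd Scheme.fppfPrecoverage i aXh aY' j')
    (m : Y' ⟶ Y) (hm : j' ≫ m = (Q ◁ incl) ≫ j) :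
    Mono m ∧
      (∀ (T : Over S) (y : T ⟶ Y), (∃ y' : T ⟶ Y', y' ≫ m = y) ↔ lift (toUnit T ≫ h ≫ i) y ≫ aY.act = y) ∧
      (IsClosedImmersion incl.left → IsClosedImmersion m.left) := by
  have hpm : ∀ {T : Over S} (q : T ⟶ Q) (x : T ⟶ Xh), (lift q x ≫ j') ≫ m = lift q (x ≫ incl) ≫ j := fun {T} q x => by
    rw [Category.assoc, hm, lift_whiskerLeft_assoc]
  have hsplit : ∀ {T W : Over S} (p : T ⟶ Q ⊗ W), p = lift (p ≫ fst Q W) (p ≫ snd Q W) := fun {T W} p => by
    rw [← comp_lift, lift_fst_snd, Category.comp_id]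
  have hm' : Mono m := by
    refine ⟨fun {T} y₁ y₂ e => ?_⟩
    refine ext_of_lifts j' hY'.2.2 y₁ y₁ y₂ fun T₁ f p hp => ?_
    refine ext_of_lifts j' hY'.2.2 (f ≫ y₂) (f ≫ y₁) (f ≫ y₂) fun T₂ f' p' hp' => ?_
    have e2 : ((f' ≫ p) ≫ j') ≫ m = (p' ≫ j') ≫ m := by
      rw [hp', Category.assoc f' p, hp]
      simp only [Category.assoc, e]
    rw [hsplit (f' ≫ p), hsplit p', hpm, hpm] at e2
    obtain ⟨g, h1, h2⟩ := exists_of_eq hY _ _ e2
    simp only [lift_fst, lift_snd] at h1 h2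
    have h3 : (f' ≫ p) ≫ snd Q Xh = lift g (p' ≫ snd Q Xh) ≫ aXh.act := by
      rw [← cancel_mono incl, h2, Category.assoc (lift g _), hincl, lift_whiskerLeft_assoc]
    rw [← hp, ← hp', ← Category.assoc f' p, hsplit (f' ≫ p), hsplit p', h1, h3, balance hY']
  have hfix : ∀ {T : Over S} (q : T ⟶ Q) (x : T ⟶ X), lift (toUnit T ≫ h ≫ i) (lift q x ≫ j) ≫ aY.act =
      lift q (lift (toUnit T ≫ h) x ≫ a.act) ≫ j := fun {T} q x => by
    rw [act_j hY, ← hcent]
    have := balance hY (toUnit T ≫ h) (q * (toUnit T ≫ h ≫ i)) x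
    rw [Category.assoc, mul_inv_cancel_right] at this
    exact this.symm
  have hfixed_pt : ∀ {T : Over S} (q : T ⟶ Q) (x : T ⟶ X),
      lift (toUnit T ≫ h ≫ i) (lift q x ≫ j) ≫ aY.act = lift q x ≫ j → ∃ z : T ⟶ Xh, z ≫ incl = x := fun {T} q x e => by
    rw [hfix] at e
    obtain ⟨g, h1, h2⟩ := exists_of_eq hY _ _ e
    simp only [lift_fst, lift_snd] at h1 h2
    have hg : g = 1 := by
      have h1' : g ≫ i = 1 := by
        rwa [left_eq_mul, inv_eq_one] at h1
      rw [← cancel_mono i, h1']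
      exact ((IsMonHom.monoidHom i T).map_one).symm
    rw [hg, AlgGrp79.one_act'] at h2
    exact (hXh T x).mpr h2
  have himg : ∀ (T : Over S) (y : T ⟶ Y), (∃ y' : T ⟶ Y', y' ≫ m = y) ↔ lift (toUnit T ≫ h ≫ i) y ≫ aY.act = y := by
    intro T y
    constructor
    · rintro ⟨y', rfl⟩
      refine ext_of_lifts j' hY'.2.2 y' _ _ fun T₁ f p hp => ?_
      rw [← Category.assoc f (lift _ _), comp_lift, ← Category.assoc f (toUnit T), toUnit_unique (f ≫ toUnit T) (toUnit T₁),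
        ← Category.assoc f y', ← hp, hsplit p, hpm, hfix, (hXh T₁ _).mp ⟨_, rfl⟩]
    · intro e
      haveI := hm'
      refine factors_of_local_lifts m y j hY.2.2 fun T₁ f p hp => ?_
      have e1 := congrArg (f ≫ ·) e
      simp only [← Category.assoc f (lift _ _), comp_lift, ← Category.assoc f (toUnit T), toUnit_unique (f ≫ toUnit T) (toUnit T₁)] at e1
      rw [← hp, hsplit p] at e1
      obtain ⟨z, hz⟩ := hfixed_pt _ _ e1
      refine ⟨lift (p ≫ fst Q X) z ≫ j', ?_⟩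
      rw [hpm, hz, ← hsplit, hp]
  refine ⟨hm', himg, fun hci => ?_⟩
  haveI := hm'
  have hsq : IsPullback j' (Q ◁ incl) m j := by
    refine IsPullback.mk' hm (fun T φ φ' _ h2 => ?_) (fun T y' p e => ?_)
    · have e1 := congrArg (· ≫ fst Q X) h2
      have e2 := congrArg (· ≫ snd Q X) h2
      simp only [Category.assoc, whiskerLeft_fst, whiskerLeft_snd] at e1 e2
      refine CartesianMonoidalCategory.hom_ext _ _ e1 ?_
      rw [← cancel_mono incl, Category.assoc, Category.assoc, e2]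
    · have e1 := (himg T (y' ≫ m)).mp ⟨y', rfl⟩
      rw [e, hsplit p] at e1
      obtain ⟨z, hz⟩ := hfixed_pt _ _ e1
      refine ⟨lift (p ≫ fst Q X) z, ?_, ?_⟩
      · rw [← cancel_mono m, hpm, hz, ← hsplit, e]
      · rw [lift_whiskerLeft, hz, ← hsplit]
  have hc : IsPullback (Q ◁ incl).left (snd Q Xh).left (snd Q X).left incl.left := by
    refine IsPullback.of_right (h₁₂ := (fst Q X).left) (h₂₂ := X.hom) (v₁₃ := Q.hom) ?_ ?_ (IsPullback.of_hasPullback Q.hom X.hom)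
    · rw [← Over.comp_left, whiskerLeft_fst, Over.w incl]
      exact IsPullback.of_hasPullback Q.hom Xh.hom
    · rw [← Over.comp_left, ← Over.comp_left, whiskerLeft_snd]
  haveI : IsClosedImmersion (Q ◁ incl).left := MorphismProperty.of_isPullback hc.flip hci
  exact isClosedImmersion_of_pullback (hsq.map (Over.forget S)) hY.2.2

end Groth.Agent.BalProd99
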