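import Groth.Agent.BalProd99.Desc

/-!
The scheme of pairs over a homogeneous space is a balanced product.
-/

set_option autoImplicit false
set_option linter.style.haveILetI false

noncomputable section

universe u

open CategoryTheory MonoidalCategory CartesianMonoidalCategory MonObj AlgebraicGeometry Opposite CategoryTheory.Limits

namespace Groth.Agent.BalProd99

variable {S : Scheme.{u}} {G X Z Ψ Xh SΨ : Over S} [GrpObj G] [GrpObj Z]

theorem isBalProd_stabilizerPart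
    (a : AlgGrp.Action G X) (h : 𝟙_ (Over S) ⟶ G)
    (i : Z ⟶ G) [IsMonHom i]
    (ψ : Ψ ⟶ G) [Mono ψ] (aΨ : AlgGrp.Action G Ψ)
    (hψ : aΨ.act ≫ ψ = fst G Ψ * (snd G Ψ ≫ ψ) * (fst G Ψ)⁻¹)
    (o : 𝟙_ (Over S) ⟶ Ψ) (ho : o ≫ ψ = h)
    (hhom : ChGrp.IsHomog Scheme.fppfPrecoverage i aΨ o)
    (incl : Xh ⟶ X) [Mono incl]
    (hXh : ∀ (T : Over S) (x : T ⟶ X), (∃ y : T ⟶ Xh, y ≫ incl = x) ↔ lift (toUnit T ≫ h) x ≫ a.act = x)
    (aXh : AlgGrp.Action Z Xh) (hincl : AlgGrp.Action.IsEquivariant aXh (a.restrict i) incl)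
    (σ : SΨ ⟶ G ⊗ X) [Mono σ]
    (hSΨ : ∀ (T : Over S) (g : T ⟶ G) (x : T ⟶ X),
      (∃ q : T ⟶ SΨ, q ≫ σ = lift g x) ↔ ((∃ y : T ⟶ Ψ, y ≫ ψ = g) ∧ lift g x ≫ a.act = x))
    (aS : AlgGrp.Action G SΨ)
    (hσ : aS.act ≫ σ = lift (fst G SΨ * (snd G SΨ ≫ σ ≫ fst G X) * (fst G SΨ)⁻¹)
      (lift (fst G SΨ) (snd G SΨ ≫ σ ≫ snd G X) ≫ a.act))
    (Φ : G ⊗ Xh ⟶ SΨ)
    (hΦ : Φ ≫ σ = lift (fst G Xh * (toUnit (G ⊗ Xh) ≫ h) * (fst G Xh)⁻¹)
      (lift (fst G Xh) (snd G Xh ≫ incl) ≫ a.act)) :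
    ChGrp.IsBalProd Scheme.fppfPrecoverage i aXh aS Φ := by
  have hpt : ∀ {T : Over S} (g : T ⟶ G) (x : T ⟶ Xh), lift g x ≫ Φ ≫ σ =
      lift (g * (toUnit T ≫ h) * g⁻¹) (lift g (x ≫ incl) ≫ a.act) := fun {T} g x => by
    rw [hΦ, comp_lift, MonObj.comp_mul, MonObj.comp_mul, GrpObj.comp_inv, lift_fst, ← Category.assoc,
      toUnit_unique (lift g x ≫ toUnit (G ⊗ Xh)) (toUnit T), ← Category.assoc, comp_lift, lift_fst, lift_snd_assoc]
  have hSpt : ∀ {T : Over S} (g : T ⟶ G) (q : T ⟶ SΨ), lift g q ≫ aS.act ≫ σ =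
      lift (g * (q ≫ σ ≫ fst G X) * g⁻¹) (lift g (q ≫ σ ≫ snd G X) ≫ a.act) := fun {T} g q => by
    rw [hσ, comp_lift, MonObj.comp_mul, MonObj.comp_mul, GrpObj.comp_inv, lift_fst, lift_snd_assoc,
      comp_lift_assoc, lift_fst, lift_snd_assoc]
  have horb : ∀ {T : Over S} (g : T ⟶ G), g ≫ aΨ.orbitMap o ≫ ψ = g * (toUnit T ≫ h) * g⁻¹ := fun {T} g => by
    rw [← Category.assoc, AlgGrp.Action.comp_orbitMap, Category.assoc, hψ, MonObj.comp_mul, MonObj.comp_mul,
      GrpObj.comp_inv, lift_fst, lift_snd_assoc, Category.assoc, ho]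
  have hz : ∀ {T : Over S} (z : T ⟶ Z) (x : T ⟶ Xh),
      (lift z x ≫ aXh.act) ≫ incl = lift (z ≫ i) (x ≫ incl) ≫ a.act := fun {T} z x => by
    rw [Category.assoc, hincl, lift_whiskerLeft_assoc, AlgGrp.Action.lift_restrict_act]
  have hcomm : ∀ {T : Over S} (z : T ⟶ Z), (z ≫ i) * (toUnit T ≫ h) * (z ≫ i)⁻¹ = toUnit T ≫ h := fun {T} z => by
    have e := congrArg (fun q => lift (1 : T ⟶ G) z ≫ q ≫ ψ) hhom.2.1.w
    simp only [Category.assoc, lift_fst_assoc, lift_whiskerLeft_assoc] at e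
    rw [horb, ← Category.assoc, ← Hom.mul_def, horb, _root_.one_mul, inv_one, _root_.mul_one, _root_.one_mul] at e
    exact e.symm
  have htw : ∀ {T : Over S} (z : T ⟶ Z) (g : T ⟶ G) (x : T ⟶ Xh),
      lift (g * (z ≫ i)⁻¹) (lift z x ≫ aXh.act) ≫ Φ = lift g x ≫ Φ := fun {T} z g x => by
    rw [← cancel_mono σ, Category.assoc, Category.assoc, hpt, hpt, hz]
    congr 1
    · have := hcomm z
      calc g * (z ≫ i)⁻¹ * (toUnit T ≫ h) * (g * (z ≫ i)⁻¹)⁻¹
          = g * ((z ≫ i)⁻¹ * (toUnit T ≫ h) * (z ≫ i)) * g⁻¹ := by group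
        _ = g * (toUnit T ≫ h) * g⁻¹ := by
            congr 2
            conv_lhs => rw [← this]
            group
    · rw [← AlgGrp79.mul_act', inv_mul_cancel_right]
  refine ⟨?_, ?_, ?_⟩
  · -- equivariance
    unfold AlgGrp.Action.IsEquivariant
    rw [← cancel_mono σ]
    apply AlgGrp.Action.hom_ext_lift₂
    intro T g p
    have hp : p = lift (p ≫ fst G Xh) (p ≫ snd G Xh) := by rw [← comp_lift, lift_fst_snd, Category.comp_id]
    simp only [← Category.assoc]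
    rw [hp, AlgGrp.Action.lift_prod_act, lift_trivialAction_act, AlgGrp.Action.lift_trivial_act, lift_whiskerLeft]
    simp only [Category.assoc]
    rw [hpt, hSpt]
    simp only [Category.assoc]
    simp only [Category.assoc, reassoc_of% (hpt (p ≫ fst G Xh) (p ≫ snd G Xh)), lift_fst, lift_snd]
    congr 1
    · group
    · simp only [← AlgGrp79.mul_act', Category.assoc]
  · -- kernel pair
    refine IsPullback.mk' ?_ (fun T φ φ' h1 h2 => ?_) (fun T x y e => ?_)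
    · apply AlgGrp.Action.hom_ext_lift₂
      intro T z p
      have hp : p = lift (p ≫ fst G Xh) (p ≫ snd G Xh) := by rw [← comp_lift, lift_fst_snd, Category.comp_id]
      rw [hp, ← Category.assoc, ChGrp.lift_twist_act, lift_snd_assoc, htw]
    · refine CartesianMonoidalCategory.hom_ext _ _ ?_ h2
      have hφ : ∀ φ : T ⟶ Z ⊗ (G ⊗ Xh), φ ≫ (ChGrp.twist i aXh).act ≫ fst G Xh =
          (φ ≫ snd Z _ ≫ fst G Xh) * (φ ≫ fst Z _ ≫ i)⁻¹ := fun φ => by
        have hφ' : φ = lift (φ ≫ fst Z _) (lift (φ ≫ snd Z _ ≫ fst G Xh) (φ ≫ snd Z _ ≫ snd G Xh)) := by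
          rw [← Category.assoc φ, ← Category.assoc φ, ← comp_lift, lift_fst_snd, Category.comp_id, ← comp_lift,
            lift_fst_snd, Category.comp_id]
        conv_lhs => rw [hφ', ← Category.assoc, ChGrp.lift_twist_act, lift_fst]
        rw [Category.assoc]
      have e1 := congrArg (· ≫ fst G Xh) h1
      simp only [Category.assoc, hφ] at e1
      rw [reassoc_of% h2] at e1
      have e2 : (φ ≫ fst Z _) ≫ i = (φ' ≫ fst Z _) ≫ i := by
        simpa using inv_injective (mul_left_cancel e1)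
      -- `i` is a monomorphism on such points because the orbit square is cartesian
      have hh := hhom.2.1
      have := hh.hom_ext (k := lift (1 : T ⟶ G) (φ ≫ fst Z _)) (l := lift (1 : T ⟶ G) (φ' ≫ fst Z _)) (by simp)
        (by rw [lift_whiskerLeft_assoc, lift_whiskerLeft_assoc, e2])
      simpa using congrArg (· ≫ snd G Z) this
    · have hx : x = lift (x ≫ fst G Xh) (x ≫ snd G Xh) := by rw [← comp_lift, lift_fst_snd, Category.comp_id]
      have hy : y = lift (y ≫ fst G Xh) (y ≫ snd G Xh) := by rw [← comp_lift, lift_fst_snd, Category.comp_id]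
      have e' := congrArg (· ≫ σ) e
      simp only [Category.assoc] at e'
      rw [hx, hy, hpt, hpt] at e'
      have e1 := congrArg (· ≫ fst G X) e'
      have e2 := congrArg (· ≫ snd G X) e'
      simp only [lift_fst, lift_snd] at e1 e2
      let q := hhom.2.1.lift (x ≫ fst G Xh) (y ≫ fst G Xh) (by
        have hh' : ∀ g : T ⟶ G, (g ≫ aΨ.orbitMap o) ≫ ψ = g * (toUnit T ≫ h) * g⁻¹ := fun g => by
          rw [Category.assoc, horb]
        rw [← cancel_mono ψ, hh', hh', e1])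
      let z := q ≫ snd G Z
      have hz' : (x ≫ fst G Xh) * (z ≫ i) = y ≫ fst G Xh := by
        have h1 : q ≫ fst G Z = x ≫ fst G Xh := hhom.2.1.lift_fst _ _ _
        have h2 : q ≫ (G ◁ i) ≫ μ[G] = y ≫ fst G Xh := hhom.2.1.lift_snd _ _ _
        rw [← h2, ← h1, Hom.mul_def, ← Category.assoc q]
        congr 1
        exact CartesianMonoidalCategory.hom_ext _ _ (by simp [z]) (by simp [z])
      refine ⟨lift z y, ?_, lift_snd _ _⟩
      rw [hy, ChGrp.lift_twist_act, hx]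
      rw [← hz', mul_inv_cancel_right]
      congr 1
      rw [← cancel_mono incl, hz]
      rw [← hz', AlgGrp79.mul_act'] at e2
      have := congrArg (fun q => lift (x ≫ fst G Xh)⁻¹ q ≫ a.act) e2
      simp only [AlgGrp79.inv_act_act] at this
      exact this.symm
  · -- local sections
    obtain ⟨R, hR, hsec⟩ := hhom.2.2
    have hSpts : ∀ (T : Over S) (q : T ⟶ SΨ), (∃ y : T ⟶ Ψ, y ≫ ψ = q ≫ σ ≫ fst G X) ∧
        lift (q ≫ σ ≫ fst G X) (q ≫ σ ≫ snd G X) ≫ a.act = q ≫ σ ≫ snd G X := fun T q =>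
      (hSΨ T _ _).mp ⟨q, by rw [← Category.assoc q, ← Category.assoc q, ← comp_lift, lift_fst_snd, Category.comp_id]⟩
    obtain ⟨⟨πΨ, hπ⟩, -⟩ := hSpts SΨ (𝟙 SΨ)
    rw [Category.id_comp] at hπ
    refine ⟨R.pullbackArrows πΨ.left, Precoverage.pullbackArrows_mem πΨ.left hR, ?_⟩
    rintro S' f ⟨W, φ, hφ⟩
    obtain ⟨s, hs⟩ := hsec φ hφ
    let T : Over S := Over.mk (pullback.snd φ πΨ.left ≫ SΨ.hom)
    let q : T ⟶ SΨ := Over.homMk (pullback.snd φ πΨ.left) rfl
    have hgq : (pullback.fst φ πΨ.left ≫ s) ≫ (aΨ.orbitMap o).left = pullback.snd φ πΨ.left ≫ πΨ.left := by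
      rw [Category.assoc, ← pullback.condition]
      exact congrArg (pullback.fst φ πΨ.left ≫ ·) hs
    let g : T ⟶ G := Over.homMk (pullback.fst φ πΨ.left ≫ s) (by
      show (pullback.fst φ πΨ.left ≫ s) ≫ G.hom = pullback.snd φ πΨ.left ≫ SΨ.hom
      rw [← Over.w (aΨ.orbitMap o), ← Category.assoc, hgq, Category.assoc, Over.w])
    have hg : g ≫ aΨ.orbitMap o = q ≫ πΨ := Over.OverMorphism.ext hgq
    have hγ : q ≫ σ ≫ fst G X = g * (toUnit T ≫ h) * g⁻¹ := by
      rw [← horb, ← Category.assoc g, hg, Category.assoc, hπ]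
    obtain ⟨-, hfix⟩ := hSpts T q
    rw [hγ] at hfix
    let x : T ⟶ X := lift g⁻¹ (q ≫ σ ≫ snd G X) ≫ a.act
    obtain ⟨y, hy⟩ := (hXh T x).mpr (by
      have := congrArg (fun p => lift g⁻¹ p ≫ a.act) hfix
      rw [← AlgGrp79.mul_act'] at this
      rw [show g⁻¹ * (g * (toUnit T ≫ h) * g⁻¹) = (toUnit T ≫ h) * g⁻¹ from by group, AlgGrp79.mul_act'] at this
      exact this)
    have hsect : lift g y ≫ Φ = q := by
      rw [← cancel_mono σ, Category.assoc, hpt, hy, AlgGrp79.act_inv_act, ← hγ, ← Category.assoc q, ← Category.assoc q,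
        ← comp_lift, lift_fst_snd, Category.comp_id]
    exact ⟨(lift g y).left, congrArg CommaMorphism.left hsect⟩

end Groth.Agent.BalProd99
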