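import Groth.Agent.BalProd99.Desc

/-!
An invariant subobject of a balanced product is a balanced product.
-/

set_option autoImplicit false
set_option linter.style.haveILetI false

noncomputable section

universe u

open CategoryTheory MonoidalCategory CartesianMonoidalCategory MonObj AlgebraicGeometry Opposite CategoryTheory.Limits

namespace Groth.Agent.BalProd99

variable {S : Scheme.{u}} {G H Z Y Y' Z' : Over S} [GrpObj G] [GrpObj H]

theorem exists_isBalProd_of_pullback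
    (i : H ⟶ G) [IsMonHom i]
    (aZ : AlgGrp.Action H Z) (aY : AlgGrp.Action G Y) (j : G ⊗ Z ⟶ Y)
    (hY : ChGrp.IsBalProd Scheme.fppfPrecoverage i aZ aY j)
    (c : Y' ⟶ Y) [Mono c]
    (aY' : AlgGrp.Action G Y') (hc : AlgGrp.Action.IsEquivariant aY' aY c)
    (c' : Z' ⟶ Z) (c'' : Z' ⟶ Y')
    (hp : IsPullback c' c'' (lift (1 : Z ⟶ G) (𝟙 Z) ≫ j) c) :
    ∃ (aZ' : AlgGrp.Action H Z') (j' : G ⊗ Z' ⟶ Y'),
      AlgGrp.Action.IsEquivariant aZ' aZ c' ∧ j' ≫ c = (G ◁ c') ≫ j ∧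
      ChGrp.IsBalProd Scheme.fppfPrecoverage i aZ' aY' j' := by
  haveI : Mono c' := ⟨fun a b e => hp.hom_ext e (by
    simp only [← cancel_mono c, Category.assoc, ← hp.w, reassoc_of% e])⟩
  have hcp : ∀ {T : Over S} (g : T ⟶ G) (y : T ⟶ Y'), (lift g y ≫ aY'.act) ≫ c = lift g (y ≫ c) ≫ aY.act :=
    fun {T} g y => by rw [Category.assoc, hc, lift_whiskerLeft_assoc]
  have he : ∀ {T : Over S} (z : T ⟶ Z), z ≫ lift (1 : Z ⟶ G) (𝟙 Z) ≫ j = lift 1 z ≫ j := fun {T} z => by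
    rw [← Category.assoc, comp_lift, MonObj.comp_one, Category.comp_id]
  have hz : ∀ {T : Over S} (z : T ⟶ Z'), lift 1 (z ≫ c') ≫ j = (z ≫ c'') ≫ c := fun {T} z => by
    rw [← he, Category.assoc, hp.w, Category.assoc]
  have hih : ∀ {T : Over S} (h : T ⟶ H) (z : T ⟶ Z),
      lift 1 (lift h z ≫ aZ.act) ≫ j = lift (h ≫ i) (lift 1 z ≫ j) ≫ aY.act := fun {T} h z => by
    rw [act_j hY, _root_.mul_one]
    have e := balance hY h (h ≫ i) z
    rwa [mul_inv_cancel] at e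
  have hw : ((H ◁ c') ≫ aZ.act) ≫ lift (1 : Z ⟶ G) (𝟙 Z) ≫ j =
      (lift (fst H Z' ≫ i) (snd H Z' ≫ c'') ≫ aY'.act) ≫ c := by
    refine AlgGrp.Action.hom_ext_lift₂ fun T h z => ?_
    rw [← Category.assoc, he, lift_whiskerLeft_assoc, hih, hz, ← Category.assoc (lift h z) (lift _ _ ≫ _) c,
      ← Category.assoc (lift h z), comp_lift, lift_fst_assoc, lift_snd_assoc, hcp]
  let act' : H ⊗ Z' ⟶ Z' := hp.lift _ _ hw
  have hact : ∀ {T : Over S} (h : T ⟶ H) (z : T ⟶ Z'), (lift h z ≫ act') ≫ c' = lift h (z ≫ c') ≫ aZ.act :=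
    fun {T} h z => by
      rw [Category.assoc, show act' ≫ c' = (H ◁ c') ≫ aZ.act from hp.lift_fst _ _ _, lift_whiskerLeft_assoc]
  let aZ' : AlgGrp.Action H Z' :=
    { act := act'
      one_act := by
        rw [← cancel_mono c', Category.assoc, show act' ≫ c' = (H ◁ c') ≫ aZ.act from hp.lift_fst _ _ _,
          ← whisker_exchange_assoc, aZ.one_act, leftUnitor_naturality]
      mul_act := by
        refine AlgGrp.Action.hom_ext_lift₃ fun T h h' z => ?_
        rw [lift_whiskerRight_assoc, lift_lift_associator_hom_assoc, lift_whiskerLeft_assoc, ← Hom.mul_def,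
          ← cancel_mono c', hact, hact, hact]
        exact aZ.lift_mul_act h h' (z ≫ c') }
  let j' : G ⊗ Z' ⟶ Y' := lift (fst G Z') (snd G Z' ≫ c'') ≫ aY'.act
  have hj' : ∀ {T : Over S} (g : T ⟶ G) (z : T ⟶ Z'), lift g z ≫ j' = lift g (z ≫ c'') ≫ aY'.act := fun {T} g z => by
    rw [← Category.assoc, comp_lift, lift_fst, lift_snd_assoc]
  have hjc : ∀ {T : Over S} (g : T ⟶ G) (z : T ⟶ Z'), (lift g z ≫ j') ≫ c = lift g (z ≫ c') ≫ j :=
    fun {T} g z => by
      rw [hj', hcp, ← hz, act_j hY, _root_.mul_one]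
  have hsplit : ∀ {T W : Over S} (p : T ⟶ G ⊗ W), p = lift (p ≫ fst G W) (p ≫ snd G W) := fun {T W} p => by
    rw [← comp_lift, lift_fst_snd, Category.comp_id]
  have hsplit' : ∀ {T : Over S} (p : T ⟶ H ⊗ (G ⊗ Z')),
      p = lift (p ≫ fst H (G ⊗ Z')) (p ≫ snd H (G ⊗ Z')) := fun {T} p => by
    rw [← comp_lift, lift_fst_snd, Category.comp_id]
  refine ⟨aZ', j', hp.lift_fst _ _ _, ?_, ?_, ?_, ?_⟩
  · exact AlgGrp.Action.hom_ext_lift₂ fun T g z => by
      rw [← Category.assoc, hjc, lift_whiskerLeft_assoc]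
  · refine AlgGrp.Action.hom_ext_lift₂ fun T g p => ?_
    rw [hsplit p, lift_whiskerLeft_assoc, ← Category.assoc (lift g _), AlgGrp.Action.lift_prod_act,
      lift_trivialAction_act, AlgGrp.Action.lift_trivial_act, hj', hj']
    exact aY'.lift_mul_act _ _ _
  · refine IsPullback.mk' ?_ (fun T φ φ' h1 h2 => ?_) (fun T x y e => ?_)
    · refine AlgGrp.Action.hom_ext_lift₂ fun T h p => ?_
      rw [hsplit p, ← cancel_mono c, ← Category.assoc (lift h _) (ChGrp.twist i aZ').act, ChGrp.lift_twist_act, hjc,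
        lift_snd_assoc, hjc, hact]
      exact balance hY h _ _
    · -- the twisted action is free
      let w : (G ⊗ Z') ⟶ G ⊗ Z := G ◁ c'
      have e1 : ∀ (h : T ⟶ H) (p : T ⟶ G ⊗ Z'),
          lift h (p ≫ w) ≫ (ChGrp.twist i aZ).act = (lift h p ≫ (ChGrp.twist i aZ').act) ≫ w := fun h p => by
        rw [hsplit p, ChGrp.lift_twist_act, lift_whiskerLeft, lift_whiskerLeft, ChGrp.lift_twist_act, hact]
      have key : lift (φ ≫ fst H (G ⊗ Z')) ((φ ≫ snd H (G ⊗ Z')) ≫ w) =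
          lift (φ' ≫ fst H (G ⊗ Z')) ((φ' ≫ snd H (G ⊗ Z')) ≫ w) :=
        hY.2.1.hom_ext (by rw [e1, e1, ← hsplit', ← hsplit', h1]) (by rw [lift_snd, lift_snd, h2])
      have key' := congrArg (· ≫ fst H (G ⊗ Z)) key
      simp only [lift_fst] at key'
      exact CartesianMonoidalCategory.hom_ext _ _ key' h2
    · have e' := congrArg (· ≫ c) e
      rw [hsplit x, hsplit y, hjc, hjc] at e'
      obtain ⟨h, h1, h2⟩ := exists_of_eq hY _ _ e'
      simp only [lift_fst, lift_snd] at h1 h2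
      refine ⟨lift h y, ?_, lift_snd _ _⟩
      rw [hsplit y, ChGrp.lift_twist_act, ← h1]
      refine (congrArg (lift _) ?_).trans (hsplit x).symm
      rw [← cancel_mono c', hact]
      exact h2.symm
  · obtain ⟨R, hR, hsec⟩ := hY.2.2
    refine ⟨R.pullbackArrows c.left, Precoverage.pullbackArrows_mem _ hR, ?_⟩
    rintro _ _ ⟨W, f, hf⟩
    obtain ⟨σ, hσ⟩ := hsec f hf
    let T : Over S := Over.mk (pullback.snd f c.left ≫ Y'.hom)
    let y' : T ⟶ Y' := Over.homMk (pullback.snd f c.left) rfl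
    have hσ' : (pullback.fst f c.left ≫ σ) ≫ j.left = pullback.snd f c.left ≫ c.left := by
      rw [← pullback.condition, Category.assoc]
      exact congrArg (pullback.fst f c.left ≫ ·) hσ
    let p : T ⟶ G ⊗ Z := Over.homMk (pullback.fst f c.left ≫ σ) (by
      show (pullback.fst f c.left ≫ σ) ≫ (G ⊗ Z).hom = pullback.snd f c.left ≫ Y'.hom
      rw [← Over.w j, ← Category.assoc, hσ', Category.assoc, Over.w])
    have hpj : p ≫ j = y' ≫ c := Over.OverMorphism.ext hσ'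
    have hg : (p ≫ snd G Z) ≫ lift (1 : Z ⟶ G) (𝟙 Z) ≫ j = (lift (p ≫ fst G Z)⁻¹ y' ≫ aY'.act) ≫ c := by
      rw [he, hcp, ← hpj, congrArg (· ≫ j) (hsplit p), act_j hY, inv_mul_cancel]
    let z' : T ⟶ Z' := hp.lift _ _ hg
    have hfin : lift (p ≫ fst G Z) z' ≫ j' = y' := by
      rw [hj', show z' ≫ c'' = lift (p ≫ fst G Z)⁻¹ y' ≫ aY'.act from hp.lift_snd _ _ _,
        ← AlgGrp.Action.lift_mul_act, mul_inv_cancel, AlgGrp.Action.lift_one_act]
    exact ⟨(lift (p ≫ fst G Z) z').left, congrArg CommaMorphism.left hfin⟩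

end Groth.Agent.BalProd99
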